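import Cfsg.Agent.H749.KKL.TorE8

/-!
# S4546, `E₈`: traces of the involutions of the torus, Frobenius fixed points (helper749)
-/

set_option autoImplicit false
set_option linter.unusedSectionVars false

namespace Cfsg.Agent.H749.KKL

open CoxeterSystem Cfsg Cfsg.Lie Cfsg.Lie.ChevalleyDatum
open Cfsg.Agent.ChevalleyStructure Cfsg.Agent.ChevalleyStructure.Elts Cfsg.Agent.ChevalleyStructure.CoxeterGeom
  Cfsg.Agent.ChevalleyStructure.CoxeterGeomTypes Cfsg.Agent.ChevalleyStructure.NPerm
open Cfsg.Agent.Tits.Roots Cfsg.Agent.Tits.Core Cfsg.Agent.Nodes Cfsg.Agent.Nodes.Reps Cfsg.Agent.Nodes.BNOf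
  Cfsg.Agent.Nodes.RGDChev Cfsg.Agent.Nodes.Bruhat Cfsg.Agent.Nodes.NormalForm
open Cfsg.Agent.KFacts.RgdField Cfsg.Agent.KFacts.RgdChevCoord
open Cfsg.Agent.BpExc Cfsg.Agent.BpExc.TorCent Cfsg.Agent.BpExc.TorChev Cfsg.Agent.BpExc.Tow
  Cfsg.Agent.BpExc.TowChev Cfsg.Agent.GpExc.Field
open Cfsg.Agent.OddHalf.NI.ModelChev Cfsg.Agent.H557.SignTorus Cfsg.Agent.H557.OrbE8 Cfsg.Agent.H557.ToralTypes
open Cfsg.Agent.H167.KKL

universe u

/-- number of roots with value `-1` -/
def cnt (m : ℕ) : ℕ := ((List.range 240).filter fun r => par 8 (m &&& cr r)).length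

/-- the parity table -/
def PT : ℕ := 47758914269546354982683078068829456704164423862093743397580034411621752859030

theorem PT_spec : ∀ x < 256, PT.testBit x = par 8 x := by decide +kernel

theorem range_cr : (List.range 240).map cr = ca.reverse ++ ca := by decide +kernel

/-- fast count -/
noncomputable def cntR (m : ℕ) (l : List ℕ) : ℕ :=
  List.rec 0 (fun c _ ih => Nat.add ih (Nat.land (Nat.shiftRight PT (Nat.land m c)) 1)) l

theorem cntR_spec {m : ℕ} (hm : m < 256) (l : List ℕ) :
    cntR m l = (l.filter fun c => par 8 (m &&& c)).length := by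
  induction l with
  | nil => rfl
  | cons c l ih =>
    have h1 : cntR m (c :: l) = cntR m l + ((PT >>> (m &&& c)) &&& 1) := rfl
    have h2 : m &&& c < 256 := lt_of_le_of_lt Nat.and_le_left hm
    have h3 := PT_spec _ h2
    rw [Nat.testBit_eq_decide_div_mod_eq, ← Nat.shiftRight_eq_div_pow, ← Nat.and_one_is_mod] at h3
    rw [h1, ih]
    by_cases hp : par 8 (m &&& c) = true
    · rw [hp, decide_eq_true_eq] at h3
      rw [h3, List.filter_cons, if_pos hp, List.length_cons]
    · rw [Bool.not_eq_true] at hp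
      rw [hp, decide_eq_false_iff_not] at h3
      have h4 : (PT >>> (m &&& c)) &&& 1 = 0 := by
        rw [Nat.and_one_is_mod] at h3 ⊢
        omega
      rw [h4, List.filter_cons, if_neg (by rw [hp]; decide), add_zero]

theorem cnt_eq {m : ℕ} (hm : m < 256) : cnt m = 2 * cntR m ca := by
  have h1 : cnt m = (((List.range 240).map cr).filter fun c => par 8 (m &&& c)).length := by
    rw [List.filter_map, List.length_map]
    rfl
  rw [h1, range_cr, List.filter_append, List.length_append, List.filter_reverse, List.length_reverse, cntR_spec hm]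
  omega

theorem cntR_cases : ∀ m < 256, (cntR m ca = 64 ∧ O_TabD8.testBit m = true) ∨ cntR m ca = 56 ∨ cntR m ca = 0 := by
  decide +kernel

theorem cnt_cases {m : ℕ} (hm : m < 256) :
    (cnt m = 128 ∧ O_TabD8.testBit m = true) ∨ cnt m = 112 ∨ cnt m = 0 := by
  rw [cnt_eq hm]
  rcases cntR_cases m hm with ⟨h1, h2⟩ | h1 | h1
  · exact Or.inl ⟨by rw [h1], h2⟩
  · exact Or.inr (Or.inl (by rw [h1]))
  · exact Or.inr (Or.inr (by rw [h1]))

theorem sum_sign {k : Type u} [Ring k] (f : ℕ → Bool) (n : ℕ) :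
    ∑ s : Fin n, (if f s then (-1 : k) else 1) = (n : k) - 2 * ((((List.range n).filter fun r => f r).length : ℕ) : k) := by
  induction n with
  | zero => simp
  | succ n ih =>
    rw [Fin.sum_univ_castSucc]
    simp only [Fin.val_castSucc, Fin.val_last]
    rw [ih, List.range_succ, List.filter_append, List.length_append]
    by_cases hf : f n = true
    · rw [if_pos hf, List.filter_cons_of_pos hf, List.filter_nil, List.length_singleton, Nat.cast_add, Nat.cast_add,
        Nat.cast_one, mul_add]
      abel_nf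
      norm_num
    · rw [if_neg hf, List.filter_cons_of_neg hf, List.filter_nil, List.length_nil, add_zero, Nat.cast_add, Nat.cast_one]
      abel

section E8

variable (hp : IsType chevE8 8 CoxeterMatrix.E₈) {k : Type u} [Field k] (p : ℕ) [Fact p.Prime] [CharP k p]

include p in
/-- the trace of an involution of the torus -/
theorem trL_mask (hk : LocFin k) (m : ℕ) : trL chevE8 (th hp (sg k 8 m)) = 248 - 2 * (cnt m : k) := by
  unfold trL
  rw [H892.El.coe_TT hp (r := p) hk (th_mem hp _), Matrix.trace_diagonal]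
  unfold H892.El.dd
  rw [Fintype.sum_sum_type]
  simp only [Sum.elim_inl, Sum.elim_inr]
  rw [Finset.sum_const, Finset.card_univ, Fintype.card_fin]
  have h1 : ∑ s : Fin chevE8.nroots, ch hp (vec chevE8 8 s) (th hp (sg k 8 m)) =
      ∑ s : Fin chevE8.nroots, (if par 8 (m &&& cr s) then (-1 : k) else 1) :=
    Finset.sum_congr rfl fun s _ => ch_mask hp s.2 m
  rw [h1, sum_sign (fun s => par 8 (m &&& cr s)) chevE8.nroots, nroots_E8]
  have h2 : chevE8.rank = 8 := rfl
  rw [h2]
  unfold cnt
  norm_num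
  ring

/-- an involution of trace `-8` belongs to the orbit of 135 -/
theorem orb_of_trace (hk : LocFin k) (hp2 : p ≠ 2) {m : ℕ} (hm : m < 256)
    (h : trL chevE8 (th hp (sg k 8 m)) = -8) : O_TabD8.testBit m = true := by
  rw [trL_mask hp p hk] at h
  have hpo : ∀ n : ℕ, (((2 : ℕ) ^ n : ℕ) : k) ≠ 0 := by
    intro n hn
    rw [CharP.cast_eq_zero_iff k p] at hn
    have hpp : p.Prime := Fact.out
    exact hp2 ((Nat.prime_dvd_prime_iff_eq hpp Nat.prime_two).1 (hpp.dvd_of_dvd_pow hn))
  rcases cnt_cases hm with h1 | h1 | h1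
  · exact h1.2
  · exfalso
    apply hpo 5
    rw [h1] at h
    push_cast at h ⊢
    linear_combination h
  · exfalso
    apply hpo 8
    rw [h1] at h
    push_cast at h ⊢
    linear_combination h

/-- the trace is invariant under conjugation -/
theorem trL_conj {D : ChevalleyDatum} (g x : ↥(D.group k)) : trL D (g * x * g⁻¹) = trL D x := by
  unfold trL
  rw [Subgroup.coe_mul, Subgroup.coe_mul, Subgroup.coe_inv, Units.val_mul, Units.val_mul]
  exact Matrix.trace_units_conj _ _

/-- **the fixed points of the Frobenius map** -/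
theorem fix_range {F : Type u} [Field F] [Fintype F] (hk : LocFin k) {φ : k →+* k}
    (hφ : ∀ t, φ t = t ^ Fintype.card F) (f : F →+* k) {w : ↥(chevE8.group k)} (hw : emb hp.inList φ w = w) :
    w ∈ (emb hp.inList f).range := by
  have hw' : glMap chevE8 φ (w : GL chevE8.Idx k) = w := by rw [← coe_emb hp.inList, hw]
  obtain ⟨a, ha, t, ht, e⟩ := EmbSplit.untw_split hp.inList (Emb.fix_iff_range (f := f) hφ) w.2 hw'
  have hta : t ∈ chevE8.group k := diagonal_le_group hp.inList _ ht
  have hσ : ∀ x : ↥(chevE8.group F), emb hp.inList φ (emb hp.inList f x) = emb hp.inList f x := by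
    intro x
    have hc : φ.comp f = f := RingHom.ext fun s => (Emb.fix_iff_range hφ (f s)).2 ⟨s, rfl⟩
    rw [emb_comp, hc]
  set t' : ↥(chevE8.group k) := ⟨t, hta⟩ with ht'
  set a' : ↥(chevE8.group F) := ⟨a, ha⟩ with ha'
  have e' : w = emb hp.inList f a' * t' := Subtype.ext e
  have h1 : emb hp.inList φ t' = t' := by
    have h2 : t' = (emb hp.inList f a')⁻¹ * w := by rw [e']; group
    conv_lhs => rw [h2, map_mul, map_inv, hσ, hw]
    exact h2.symm
  obtain ⟨b, hb⟩ := exists_th hp hk (t := t') (Subgroup.mem_subgroupOf.2 ht)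
  rw [← hb, emb_th] at h1
  have h3 := th_injective hp h1
  have h4 : ∀ i, ∃ c : Fˣ, Units.map (f : F →* k) c = b i := by
    intro i
    have h5 : φ (b i : k) = b i := by
      have := congrArg Units.val (congrFun h3 i)
      exact this
    obtain ⟨c, hc⟩ := (Emb.fix_iff_range hφ _).1 h5
    have hc0 : c ≠ 0 := by
      rintro rfl
      rw [map_zero] at hc
      exact (b i).ne_zero hc.symm
    exact ⟨Units.mk0 c hc0, Units.ext hc⟩
  choose c hc using h4
  refine ⟨a' * th hp c, ?_⟩
  rw [map_mul, emb_th, e', ← hb]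
  congr 2
  funext i
  exact hc i

end E8

end Cfsg.Agent.H749.KKL
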