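import Cfsg.Agent.H749.KKL.EndAbs
import Cfsg.Agent.H749.KKL.TrE8

/-!
# S4546, row `E₈(q)`, `q` odd: the end (P5, helper749)

No configuration `Cfg0 D x` in `E₈(q)` such that all involutions of `D` have trace `-8` and `D` is conjugate over the
algebraic closure into the torus.
-/

set_option autoImplicit false
set_option linter.unusedSectionVars false

namespace Cfsg.Agent.H749.KKL

open CoxeterSystem Cfsg Cfsg.Lie Cfsg.Lie.ChevalleyDatum
open Cfsg.Agent.ChevalleyStructure Cfsg.Agent.ChevalleyStructure.Elts Cfsg.Agent.ChevalleyStructure.CoxeterGeom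
  Cfsg.Agent.ChevalleyStructure.CoxeterGeomTypes Cfsg.Agent.ChevalleyStructure.NPerm
open Cfsg.Agent.Tits.Roots Cfsg.Agent.Tits.Core Cfsg.Agent.Nodes Cfsg.Agent.Nodes.Reps Cfsg.Agent.Nodes.BNOf
  Cfsg.Agent.Nodes.RGDChev Cfsg.Agent.Nodes.Bruhat Cfsg.Agent.Nodes.NormalForm
open Cfsg.Agent.KFacts.RgdField Cfsg.Agent.KFacts.RgdChevCoord
open Cfsg.Agent.BpExc Cfsg.Agent.BpExc.TorCent Cfsg.Agent.BpExc.TorChev Cfsg.Agent.BpExc.Tow
  Cfsg.Agent.BpExc.TowChev Cfsg.Agent.GpExc.Field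
open Cfsg.Agent.OddHalf.NI.ModelChev Cfsg.Agent.H557.SignTorus Cfsg.Agent.H557.OrbE8 Cfsg.Agent.H557.ToralTypes
open Cfsg.Agent.H795.SetCent
open Cfsg.Agent.H167.KKL Cfsg.Agent.H613.KKL

universe u

section EZ

variable {D : ChevalleyDatum} {l : ℕ} {M : CoxeterMatrix (Fin l)} (hp : IsType D l M) {k : Type u} [Field k]
  (p : ℕ) [Fact p.Prime] [CharP k p] (hk : LocFin k)

include p hk in
/-- the involutions of the torus annihilated by the roots annihilated by `Z` -/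
def EZ (Z : Set ↥(D.group k)) : Subgroup ↥(D.group k) where
  carrier := {t | t ∈ TT D k ∧ t * t = 1 ∧ ∀ a, IsRoot M.toCoxeterSystem hp.isCartan a → (∀ z ∈ Z, ch hp a z = 1) →
    ch hp a t = 1}
  one_mem' := by
    refine ⟨one_mem _, mul_one _, fun a ha _ => ?_⟩
    have C := coordsL hp M.toCoxeterSystem hk p
    have h1 := (C.coord a ha).chi_mul (one_mem (TT D k)) (one_mem _)
    rw [mul_one] at h1
    exact (mul_eq_left₀ ((C.coord a ha).chi_ne_zero (one_mem _))).1 h1.symm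
  mul_mem' := by
    rintro s t ⟨h1, h2, h3⟩ ⟨h4, h5, h6⟩
    have C := coordsL hp M.toCoxeterSystem hk p
    have hc : s * t = t * s := congrArg Subtype.val (comm_TT hp ⟨s, h1⟩ ⟨t, h4⟩)
    refine ⟨mul_mem h1 h4, ?_, fun a ha hz => ?_⟩
    · calc s * t * (s * t) = s * t * (t * s) := by rw [← hc]
        _ = s * (t * t) * s := by group
        _ = 1 := by rw [h5, mul_one, h2]
    · rw [(C.coord a ha).chi_mul h1 h4, h3 a ha hz, h6 a ha hz, mul_one]
  inv_mem' := by
    rintro s ⟨h1, h2, h3⟩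
    have h4 : s⁻¹ = s := inv_eq_of_mul_eq_one_right h2
    rw [Set.mem_ofPred_eq, h4]
    exact ⟨h1, h2, h3⟩

theorem mem_EZ {Z : Set ↥(D.group k)} {t : ↥(D.group k)} : t ∈ EZ hp p hk Z ↔ t ∈ TT D k ∧ t * t = 1 ∧
    ∀ a, IsRoot M.toCoxeterSystem hp.isCartan a → (∀ z ∈ Z, ch hp a z = 1) → ch hp a t = 1 := Iff.rfl

theorem EZ_comm {Z : Set ↥(D.group k)} {a b : ↥(D.group k)} (ha : a ∈ EZ hp p hk Z) (hb : b ∈ EZ hp p hk Z) :
    a * b = b * a := congrArg Subtype.val (comm_TT hp ⟨a, ha.1⟩ ⟨b, hb.1⟩)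

/-- **`EZ` is invariant under the normalizer of `Z`.** -/
theorem EZ_conj [Finite M.Group] {ι : Type*} [Finite ι] {s t : ι → ↥(D.group k)} (hs : ∀ i, s i ∈ TT D k)
    (ht : ∀ i, ∃ j, t i = s j) {n : ↥(D.group k)} (e : ∀ i, n * s i = t i * n) {x : ↥(D.group k)}
    (hx : x ∈ EZ hp p hk (Set.range s)) : n * x * n⁻¹ ∈ EZ hp p hk (Set.range s) := by
  have H := tow hp M.toCoxeterSystem hk p
  have C := coordsL hp M.toCoxeterSystem hk p
  have hT := TL_eq hp hk
  have hX := XL_eq hp hk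
  have C' : Coords M.toCoxeterSystem hp.isCartan (TL (Tj hp (k := k))) (nc hp k) (XL (Xj hp)) (xc hp) (ch hp) := by
    rw [hT, hX]; exact C
  have ht' : ∀ i, t i ∈ TT D k := fun i => by
    obtain ⟨j, hj⟩ := ht i
    rw [hj]; exact hs j
  obtain ⟨m, hm, w, g, hg, hgs, rfl⟩ := exists_formZ H C' (ι := ι) (s := s) (t := t) (fun i => by rw [hT]; exact hs i)
    (fun i => by rw [hT]; exact ht' i) (c := n) (by rw [GG_eq_top hp _ hk]; exact Subgroup.mem_top n) e
  obtain ⟨hx1, hx2, hx3⟩ := hx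
  -- the characters of `g x g⁻¹`
  have hgx : g * x * g⁻¹ ∈ TT D k := by
    have h1 := hg.mem_normalizer
    rw [hT] at h1
    exact (Subgroup.mem_normalizer_iff.1 h1 x).1 hx1
  have key : ∀ a, IsRoot M.toCoxeterSystem hp.isCartan a → (∀ i, ch hp a (t i) = 1) → ch hp a (g * x * g⁻¹) = 1 := by
    intro a ha h
    have hb : IsRoot M.toCoxeterSystem hp.isCartan (rep M.toCoxeterSystem hp.isCartan w⁻¹ a) := ha.act _
    have h1 : ∀ y ∈ TT D k, ch hp a (g * y * g⁻¹) = ch hp (rep M.toCoxeterSystem hp.isCartan w⁻¹ a) y := by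
      intro y hy
      have h2 := C'.chi_rp H.nsys hg hb (t := y) (by rw [hT]; exact hy)
      rwa [rep_apply_inv] at h2
    rw [h1 x hx1]
    refine hx3 _ hb ?_
    rintro _ ⟨i, rfl⟩
    rw [← h1 _ (hs i), hgs i, mul_inv_cancel_right]
    exact h i
  have hmx : m * (g * x * g⁻¹) = g * x * g⁻¹ * m := by
    have h1 : MMZ M.toCoxeterSystem hp.isCartan (XL (Xj hp)) (ch hp) (Set.range t) ≤
        MMZ M.toCoxeterSystem hp.isCartan (XL (Xj hp)) (ch hp) {g * x * g⁻¹} := by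
      refine RGD.Sup_mono ?_
      rintro a ⟨ha, h⟩
      refine ⟨ha, ?_⟩
      rintro _ rfl
      exact key a ha fun i => h _ ⟨i, rfl⟩
    have h2 := MMZ_le_centralizer C' (Z := {g * x * g⁻¹}) (by
      rw [hT]
      exact Set.singleton_subset_iff.2 hgx) (h1 hm)
    exact (Subgroup.mem_centralizer_iff.1 h2 _ rfl).symm
  have e1 : m * g * x * (m * g)⁻¹ = g * x * g⁻¹ := by
    calc m * g * x * (m * g)⁻¹ = m * (g * x * g⁻¹) * m⁻¹ := by group
      _ = g * x * g⁻¹ := by rw [hmx, mul_inv_cancel_right]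
  rw [e1]
  refine ⟨hgx, ?_, fun a ha h => key a ha fun i => ?_⟩
  · calc g * x * g⁻¹ * (g * x * g⁻¹) = g * (x * x) * g⁻¹ := by group
      _ = 1 := by rw [hx2]; group
  · obtain ⟨j, hj⟩ := ht i
    rw [hj]
    exact h _ ⟨j, rfl⟩

end EZ

section E8

variable (hp : IsType chevE8 8 CoxeterMatrix.E₈) (p : ℕ) [Fact p.Prime]

theorem cr_mem {r : ℕ} (hr : r < 240) : cr r ∈ ca := by
  have h1 : cr r ∈ (List.range 240).map cr := List.mem_map_of_mem (List.mem_range.2 hr)
  rw [range_cr, List.mem_append, List.mem_reverse, or_self] at h1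
  exact h1

theorem exists_cr {c : ℕ} (hc : c ∈ ca) : ∃ r < 240, cr r = c := by
  have h1 : c ∈ (List.range 240).map cr := by
    rw [range_cr, List.mem_append]
    exact Or.inr hc
  obtain ⟨r, hr, e⟩ := List.mem_map.1 h1
  exact ⟨r, List.mem_range.1 hr, e⟩

/-- the roots annihilated by a set of masks, in terms of the characters -/
theorem ch_mask_eq_one {k : Type u} [Field k] (h2 : (2 : k) ≠ 0) {r : ℕ} (hr : r < 240) (m : ℕ) :
    ch hp (vec chevE8 8 r) (th hp (sg k 8 m)) = 1 ↔ par 8 (m &&& cr r) = false := by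
  rw [ch_mask hp (by rw [nroots_E8]; exact hr)]
  cases h : par 8 (m &&& cr r)
  · simp
  · simp only [if_true, Bool.true_eq_false, iff_false]
    intro h3
    apply h2
    have h4 : (2 : k) = 1 - (-1) := by ring
    rw [h4, h3, sub_self]

theorem P5 {F : Type} [Field F] [Finite F] {k : Type} [Field k] [IsAlgClosed k] [Algebra F k] [CharP k p] (hk : LocFin k)
    (hp2 : p ≠ 2) {D : Subgroup ↥(chevE8.group F)} {x : ↥(chevE8.group F)} (hD : Cfg0 D x)
    (htr : ∀ d ∈ D, d ≠ 1 → trL chevE8 (emb hp.inList (algebraMap F k) d) = -8) (g : ↥(chevE8.group k))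
    (hg : ∀ d ∈ D, g * emb hp.inList (algebraMap F k) d * g⁻¹ ∈ TT chevE8 k) : False := by
  classical
  have := Fintype.ofFinite F
  have := Cfsg.Agent.BpExc.TowChev.finite_group (D := chevE8) (F := F)
  have hpp : p.Prime := Fact.out
  have hfW : Finite CoxeterMatrix.E₈.Group := finite_W hp CoxeterMatrix.E₈.toCoxeterSystem
  have h2 : (2 : k) ≠ 0 := by
    intro h
    have h1 : ((2 : ℕ) : k) = 0 := by exact_mod_cast h
    rw [CharP.cast_eq_zero_iff k p] at h1
    exact hp2 ((Nat.prime_dvd_prime_iff_eq hpp Nat.prime_two).1 h1)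
  -- the Frobenius map
  have hcF : CharP F p := (RingHom.charP_iff (algebraMap F k) (algebraMap F k).injective p).2 inferInstance
  obtain ⟨n, -, hn⟩ := FiniteField.card F p
  have hexp : ExpChar k p := ExpChar.prime hpp
  set φ : k →+* k := iterateFrobenius k p n with hφdef
  have hφ : ∀ t, φ t = t ^ Fintype.card F := by
    intro t
    rw [hφdef, iterateFrobenius_def, hn]
  set f : F →+* k := algebraMap F k with hf
  have hφf : φ.comp f = f := RingHom.ext fun s => (Emb.fix_iff_range hφ (f s)).2 ⟨s, rfl⟩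
  set ι : ↥(chevE8.group F) →* ↥(chevE8.group k) := emb hp.inList f with hι
  have hιi : Function.Injective ι := emb_injective hp.inList f
  -- the masks
  have hD8 : Nat.card D = 8 := hD.e8.card
  have hinv : ∀ d ∈ D, d * d = 1 := hD.e8.inv
  let s : D → ↥(chevE8.group k) := fun d => g * ι d * g⁻¹
  have hsT : ∀ d, s d ∈ TT chevE8 k := fun d => hg d d.2
  have hs1 : ∀ d, s d * s d = 1 := by
    intro d
    have h1 : s d * s d = g * ι (d * d) * g⁻¹ := by
      show g * ι d * g⁻¹ * (g * ι d * g⁻¹) = _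
      rw [map_mul]; group
    rw [h1, hinv d d.2, map_one]; group
  have hsmul : ∀ a b : D, s (a * b) = s a * s b := by
    intro a b
    show g * ι ((a * b : D) : ↥(chevE8.group F)) * g⁻¹ = g * ι a * g⁻¹ * (g * ι b * g⁻¹)
    rw [Subgroup.coe_mul, map_mul]; group
  have hsi : Function.Injective s := by
    intro a b hab
    have h1 : g * ι a * g⁻¹ = g * ι b * g⁻¹ := hab
    exact Subtype.ext (hιi (mul_left_cancel (mul_right_cancel h1)))
  choose m hm256 hm using fun d => exists_mask hp hk (hsT d) (hs1 d)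
  have hmi : Function.Injective m := by
    intro a b hab
    apply hsi
    rw [← hm a, ← hm b, hab]
  have hm1 : m 1 = 0 := by
    apply mask_inj hp h2 (hm256 1) (by norm_num)
    rw [hm, sg_zero, map_one]
    show g * ι ((1 : D) : ↥(chevE8.group F)) * g⁻¹ = 1
    rw [Subgroup.coe_one, map_one]; group
  have hmx : ∀ a b, m (a * b) = m a ^^^ m b := by
    intro a b
    apply mask_inj hp h2 (hm256 _) (Nat.xor_lt_two_pow (n := 8) (hm256 a) (hm256 b))
    rw [hm, sg_xor, map_mul, hm, hm, hsmul]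
  have := Fintype.ofFinite D
  let U : Finset ℕ := Finset.univ.image m
  have hU : ∀ u, u ∈ U ↔ ∃ d, m d = u := by
    intro u
    simp [U]
  have hUc : U.card = 8 := by
    rw [Finset.card_image_of_injective _ hmi, Finset.card_univ, ← Nat.card_eq_fintype_card, hD8]
  obtain ⟨e0, he256, heU, he1, he2⟩ := comb (U := U) ((hU 0).2 ⟨1, hm1⟩) (by
      intro a ha b hb
      obtain ⟨a', rfl⟩ := (hU a).1 ha
      obtain ⟨b', rfl⟩ := (hU b).1 hb
      exact (hU _).2 ⟨a' * b', hmx a' b'⟩) hUc (by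
      intro u hu
      obtain ⟨d, rfl⟩ := (hU u).1 hu
      exact hm256 d) (by
      intro u hu hu0
      obtain ⟨d, rfl⟩ := (hU u).1 hu
      apply orb_of_trace hp p hk hp2 (hm256 d)
      rw [hm]
      show trL chevE8 (g * ι d * g⁻¹) = -8
      rw [trL_conj]
      refine htr d d.2 fun h => hu0 ?_
      have h1 : d = 1 := Subtype.ext h
      rw [h1, hm1])
  -- membership in `EZ`
  set E := EZ hp p hk (Set.range s) with hE
  have hZ : ∀ r < 240, (∀ z ∈ Set.range s, ch hp (vec chevE8 8 r) z = 1) ↔ ∀ u ∈ U, par 8 (u &&& cr r) = false := by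
    intro r hr
    constructor
    · intro h u hu
      obtain ⟨d, rfl⟩ := (hU u).1 hu
      rw [← ch_mask_eq_one hp h2 hr, hm]
      exact h _ ⟨d, rfl⟩
    · rintro h _ ⟨d, rfl⟩
      rw [← hm d, ch_mask_eq_one hp h2 hr]
      exact h _ ((hU _).2 ⟨d, rfl⟩)
  have hmemE : ∀ m', th hp (sg k 8 m') ∈ E ↔
      ∀ c ∈ ca, (∀ u ∈ U, par 8 (u &&& c) = false) → par 8 (m' &&& c) = false := by
    intro m'
    constructor
    · rintro ⟨-, -, h⟩ c hc hcU
      obtain ⟨r, hr, rfl⟩ := exists_cr hc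
      rw [← ch_mask_eq_one hp h2 hr]
      exact h _ (isRoot_vec hp _ (by rw [nroots_E8]; exact hr)) ((hZ r hr).2 hcU)
    · intro h
      refine ⟨th_mem hp _, th_sg_mul_self hp m', fun a ha hz => ?_⟩
      obtain ⟨r, hr, rfl⟩ := (isRoot_iff hp _ a).1 ha
      rw [nroots_E8] at hr
      rw [ch_mask_eq_one hp h2 hr]
      exact h _ (cr_mem hr) ((hZ r hr).1 hz)
  have hEm : ∀ y ∈ E, ∃ m' < 256, th hp (sg k 8 m') = y := fun y hy => exists_mask hp hk hy.1 hy.2.1
  have hUm : ∀ m' < 256, (∀ d ∈ D, th hp (sg k 8 m') ≠ g * ι d * g⁻¹) → m' ∉ U := by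
    intro m' _ h hu
    obtain ⟨d, rfl⟩ := (hU m').1 hu
    exact h d d.2 (hm d)
  refine end_abs hD ι hιi (emb hp.inList φ) (fun a => ?_) g E ?_ (fun a ha b hb => EZ_comm hp p hk ha hb) ?_ ?_ ?_ ?_
    (e := th hp (sg k 8 e0)) ((hmemE e0).2 he1) ?_ ?_
  · rw [hι, emb_comp, hφf]
  · intro y
    refine ⟨1, Subtype.ext ?_⟩
    rw [pow_one, Subgroup.coe_pow, pow_two]
    exact y.2.2.1
  · intro y hy
    obtain ⟨m', -, rfl⟩ := hEm y hy
    exact emb_sg hp φ m'
  · intro d hd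
    have h1 : g * ι d * g⁻¹ = th hp (sg k 8 (m ⟨d, hd⟩)) := (hm ⟨d, hd⟩).symm
    rw [h1, hmemE]
    intro c _ hcU
    exact hcU _ ((hU _).2 ⟨_, rfl⟩)
  · intro n' hn' y hy
    choose! τ hτD hτ using hn'
    refine EZ_conj hp p hk (ι := D) (s := s) (t := fun d => g * ι (τ d) * g⁻¹) hsT
      (fun d => ⟨⟨τ d, hτD d d.2⟩, rfl⟩) (fun d => ?_) hy
    show n' * (g * ι d * g⁻¹) = g * ι (τ d) * g⁻¹ * n'
    rw [← hτ d d.2]; group
  · intro a ha b hb haD hbD
    obtain ⟨ma, hma, rfl⟩ := hEm a ha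
    obtain ⟨mb, hmb, rfl⟩ := hEm b hb
    have h3 := (he2 ma hma ((hmemE ma).1 ha)).resolve_left (hUm ma hma haD)
    have h4 := (he2 mb hmb ((hmemE mb).1 hb)).resolve_left (hUm mb hmb hbD)
    obtain ⟨d, hd⟩ := (hU _).1 h3
    obtain ⟨d', hd'⟩ := (hU _).1 h4
    refine ⟨(d * d' : D), (d * d').2, ?_⟩
    have h5 : m (d * d') = ma ^^^ mb := by
      rw [hmx, hd, hd', Nat.xor_comm e0 ma, Nat.xor_assoc, ← Nat.xor_assoc e0 e0, Nat.xor_self, Nat.zero_xor]
    have h6 : (th hp (sg k 8 ma))⁻¹ = th hp (sg k 8 ma) := inv_eq_of_mul_eq_one_right (th_sg_mul_self hp ma)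
    have h7 : g * ι ((d * d' : D) : ↥(chevE8.group F)) * g⁻¹ = th hp (sg k 8 (m (d * d'))) := (hm (d * d')).symm
    rw [h7, h5, h6, sg_xor, map_mul]
  · intro d hd h
    apply heU
    have h1 : m ⟨d, hd⟩ = e0 := mask_inj hp h2 (hm256 _) he256 (by rw [hm, h])
    exact (hU _).2 ⟨_, h1⟩
  · intro w _ hw
    exact fix_range hp hk hφ f hw

end E8

end Cfsg.Agent.H749.KKL
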