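import Cfsg.Agent.H749.KKL.CombE8

/-!
# S4546, `E₈`: the totally singular 3-spaces of `T[2]` (helper749)

`comb` : `U` a subgroup of order 8 of masks, all nonzero masks in the orbit `O_TabD8`: the annihilator of the roots
annihilated by `U` is `U ∪ (e + U)`, `e ∉ U`.
-/

set_option autoImplicit false

namespace Cfsg.Agent.H749.KKL

open Cfsg.Agent.H557.SignTorus (par)
open Cfsg.Agent.H557.OrbE8 (O_TabD8)

theorem xor_cancel (a b : ℕ) : a ^^^ b ^^^ b = a := by rw [Nat.xor_assoc, Nat.xor_self, Nat.xor_zero]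

/-- doubling a subgroup of masks -/
theorem card_dbl {S : Finset ℕ} (h0 : 0 ∈ S) (hx : ∀ a ∈ S, ∀ b ∈ S, a ^^^ b ∈ S) {n : ℕ} (hn : n ∉ S) :
    (S ∪ S.image (n ^^^ ·)).card = 2 * S.card ∧ 0 ∈ S ∪ S.image (n ^^^ ·) ∧
      ∀ a ∈ S ∪ S.image (n ^^^ ·), ∀ b ∈ S ∪ S.image (n ^^^ ·), a ^^^ b ∈ S ∪ S.image (n ^^^ ·) := by
  have hd : Disjoint S (S.image (n ^^^ ·)) := by
    rw [Finset.disjoint_left]
    rintro x hx' h1
    obtain ⟨y, hy, rfl⟩ := Finset.mem_image.1 h1
    apply hn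
    have := hx _ hx' _ hy
    rwa [xor_cancel] at this
  have hi : (S.image (n ^^^ ·)).card = S.card := Finset.card_image_of_injective _ (Nat.xor_right_injective)
  refine ⟨by rw [Finset.card_union_of_disjoint hd, hi]; omega, Finset.mem_union_left _ h0, ?_⟩
  intro a ha b hb
  rw [Finset.mem_union, Finset.mem_image] at ha hb ⊢
  rcases ha with ha | ⟨a', ha, rfl⟩ <;> rcases hb with hb | ⟨b', hb, rfl⟩
  · exact Or.inl (hx a ha b hb)
  · refine Or.inr ⟨a ^^^ b', hx a ha b' hb, ?_⟩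
    rw [← Nat.xor_assoc, ← Nat.xor_assoc, Nat.xor_comm n a]
  · refine Or.inr ⟨a' ^^^ b, hx a' ha b hb, ?_⟩
    rw [Nat.xor_assoc]
  · refine Or.inl ?_
    have h1 : n ^^^ a' ^^^ (n ^^^ b') = a' ^^^ b' := by
      rw [Nat.xor_comm n a', Nat.xor_assoc, ← Nat.xor_assoc n n, Nat.xor_self, Nat.zero_xor]
    rw [h1]
    exact hx a' ha b' hb

/-- the elements of the space -/
def sp (a b c : ℕ) : Finset ℕ := {0, a, b, c, a ^^^ b, a ^^^ c, b ^^^ c, a ^^^ (b ^^^ c)}

theorem mem_sp {e a b c m : ℕ} : (tR e a b c).testBit m = true ↔ e ^^^ m ∈ sp a b c := by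
  rw [tR_spec, sp]
  simp only [Finset.mem_insert, Finset.mem_singleton]
  have key : ∀ x : ℕ, m = e ^^^ x ↔ e ^^^ m = x := by
    intro x
    constructor
    · rintro rfl
      rw [← Nat.xor_assoc, Nat.xor_self, Nat.zero_xor]
    · rintro rfl
      rw [← Nat.xor_assoc, Nat.xor_self, Nat.zero_xor]
  have h0 : m = e ↔ e ^^^ m = 0 := by
    have := key 0
    rwa [Nat.xor_zero] at this
  rw [h0, key a, key b, key c, key (a ^^^ b), key (a ^^^ c), key (b ^^^ c), key (a ^^^ (b ^^^ c))]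

theorem sp_eq {U : Finset ℕ} (h0 : 0 ∈ U) (hx : ∀ a ∈ U, ∀ b ∈ U, a ^^^ b ∈ U) (hc : U.card = 8) {a b c : ℕ}
    (ha : a ∈ U) (hb : b ∈ U) (hcU : c ∈ U) (hc0 : c ≠ 0) (hb0 : b ≠ 0) (hbc : b ≠ c) (ha0 : a ≠ 0) (hac : a ≠ c)
    (hab : a ≠ b) (habc : a ≠ b ^^^ c) : sp a b c = U := by
  obtain ⟨e1, f1, g1⟩ := card_dbl (S := {0}) (n := c) (by simp) (by simp) (by simpa using hc0)
  set S1 : Finset ℕ := {0} ∪ ({0} : Finset ℕ).image (c ^^^ ·) with hS1
  have m1 : ∀ x, x ∈ S1 ↔ x = 0 ∨ x = c := by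
    intro x
    rw [hS1]
    simp [eq_comm]
  obtain ⟨e2, f2, g2⟩ := card_dbl (S := S1) (n := b) f1 g1 (by rw [m1]; simp [hb0, hbc])
  set S2 : Finset ℕ := S1 ∪ S1.image (b ^^^ ·) with hS2
  have m2 : ∀ x, x ∈ S2 ↔ x = 0 ∨ x = c ∨ x = b ∨ x = b ^^^ c := by
    intro x
    rw [hS2, Finset.mem_union, m1, Finset.mem_image]
    constructor
    · rintro (h | ⟨y, hy, rfl⟩)
      · tauto
      · rcases (m1 y).1 hy with rfl | rfl
        · simp
        · simp
    · rintro (h | h | h | h)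
      · exact Or.inl (Or.inl h)
      · exact Or.inl (Or.inr h)
      · exact Or.inr ⟨0, (m1 0).2 (Or.inl rfl), by simp [h]⟩
      · exact Or.inr ⟨c, (m1 c).2 (Or.inr rfl), by simp [h]⟩
  obtain ⟨e3, f3, g3⟩ := card_dbl (S := S2) (n := a) f2 g2 (by rw [m2]; simp [ha0, hac, hab, habc])
  set S3 : Finset ℕ := S2 ∪ S2.image (a ^^^ ·) with hS3
  have m3 : S3 = sp a b c := by
    ext x
    rw [hS3, Finset.mem_union, m2, Finset.mem_image, sp]
    simp only [Finset.mem_insert, Finset.mem_singleton]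
    constructor
    · rintro (h | ⟨y, hy, rfl⟩)
      · tauto
      · rcases (m2 y).1 hy with rfl | rfl | rfl | rfl <;> simp
    · rintro (h | h | h | h | h | h | h | h)
      · exact Or.inl (Or.inl h)
      · exact Or.inr ⟨0, (m2 0).2 (by simp), by simp [h]⟩
      · exact Or.inl (by tauto)
      · exact Or.inl (by tauto)
      · exact Or.inr ⟨b, (m2 b).2 (by simp), by simp [h]⟩
      · exact Or.inr ⟨c, (m2 c).2 (by simp), by simp [h]⟩
      · exact Or.inl (by tauto)
      · exact Or.inr ⟨b ^^^ c, (m2 _).2 (by simp), by simp [h]⟩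
  have hcard : (sp a b c).card = 8 := by
    rw [← m3, e3, e2, e1, Finset.card_singleton]
  refine Finset.eq_of_subset_of_card_le ?_ (by rw [hcard, hc])
  intro x hx'
  rw [sp] at hx'
  simp only [Finset.mem_insert, Finset.mem_singleton] at hx'
  rcases hx' with rfl | rfl | rfl | rfl | rfl | rfl | rfl | rfl
  · exact h0
  · exact ha
  · exact hb
  · exact hcU
  · exact hx _ ha _ hb
  · exact hx _ ha _ hcU
  · exact hx _ hb _ hcU
  · exact hx _ ha _ (hx _ hb _ hcU)

/-- **The combinatorics.** -/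
theorem comb {U : Finset ℕ} (h0 : 0 ∈ U) (hx : ∀ a ∈ U, ∀ b ∈ U, a ^^^ b ∈ U) (hc : U.card = 8)
    (hU : ∀ u ∈ U, u < 256) (hO : ∀ u ∈ U, u ≠ 0 → O_TabD8.testBit u = true) :
    ∃ e < 256, e ∉ U ∧ (∀ c ∈ ca, (∀ u ∈ U, par 8 (u &&& c) = false) → par 8 (e &&& c) = false) ∧
      ∀ m < 256, (∀ c ∈ ca, (∀ u ∈ U, par 8 (u &&& c) = false) → par 8 (m &&& c) = false) → m ∈ U ∨ e ^^^ m ∈ U := by
  classical
  -- the canonical basis
  have hne1 : (U.filter (· ≠ 0)).Nonempty := by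
    by_contra hcon
    rw [Finset.not_nonempty_iff_eq_empty, Finset.filter_eq_empty_iff] at hcon
    have : U ⊆ {0} := fun x hx' => by
      have := hcon hx'
      simpa using this
    have := Finset.card_le_card this
    rw [hc, Finset.card_singleton] at this
    omega
  obtain ⟨c, hc1, hcmin⟩ := Finset.exists_min_image _ id hne1
  rw [Finset.mem_filter] at hc1
  have hne2 : (U.filter fun x => x ≠ 0 ∧ x ≠ c).Nonempty := by
    by_contra hcon
    rw [Finset.not_nonempty_iff_eq_empty, Finset.filter_eq_empty_iff] at hcon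
    have : U ⊆ {0, c} := fun x hx' => by
      have := hcon hx'
      simp only [Finset.mem_insert, Finset.mem_singleton]
      tauto
    have := (Finset.card_le_card this).trans Finset.card_le_two
    rw [hc] at this
    omega
  obtain ⟨b, hb1, hbmin⟩ := Finset.exists_min_image _ id hne2
  rw [Finset.mem_filter] at hb1
  have hne3 : (U.filter fun x => x ≠ 0 ∧ x ≠ c ∧ x ≠ b ∧ x ≠ b ^^^ c).Nonempty := by
    by_contra hcon
    rw [Finset.not_nonempty_iff_eq_empty, Finset.filter_eq_empty_iff] at hcon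
    have : U ⊆ {0, c, b, b ^^^ c} := fun x hx' => by
      have := hcon hx'
      simp only [Finset.mem_insert, Finset.mem_singleton]
      tauto
    have := (Finset.card_le_card this).trans Finset.card_le_four
    rw [hc] at this
    omega
  obtain ⟨a, ha1, hamin⟩ := Finset.exists_min_image _ id hne3
  rw [Finset.mem_filter] at ha1
  obtain ⟨hcU, hc0⟩ := hc1
  obtain ⟨hbU, hb0, hbc⟩ := hb1
  obtain ⟨haU, ha0, hac, hab, habc⟩ := ha1
  have hUs := sp_eq h0 hx hc haU hbU hcU hc0 hb0 hbc ha0 hac hab habc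
  -- xors
  have xne : ∀ x y : ℕ, y ≠ 0 → x ^^^ y ≠ x := by
    intro x y hy h
    apply hy
    have : x ^^^ (x ^^^ y) = x ^^^ x := by rw [h]
    rwa [← Nat.xor_assoc, Nat.xor_self, Nat.zero_xor] at this
  have xeq : ∀ x y : ℕ, x ^^^ y = 0 → x = y := fun x y h => Nat.xor_eq_zero_iff.1 h
  have hbcne : b ^^^ c ≠ 0 := fun h => hbc (xeq _ _ h)
  have hmem : ∀ u ∈ U, u ≠ 0 → u ∈ LO := fun u hu hu0 => LO_spec u (hU u hu) (hO u hu hu0)
  have lt_of : ∀ {x y : ℕ}, x ≤ y → y ≠ x → x < y := fun h1 h2 => lt_of_le_of_ne h1 (Ne.symm h2)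
  have p1 : P1 c b = true := by
    have h1 : c < b := lt_of (hcmin b (Finset.mem_filter.2 ⟨hbU, hb0⟩)) hbc
    have h2 : b < b ^^^ c := lt_of (hbmin _ (Finset.mem_filter.2 ⟨hx _ hbU _ hcU, hbcne, fun h => hb0 (by
      have : b ^^^ c ^^^ c = c ^^^ c := by rw [h]
      rwa [xor_cancel, Nat.xor_self] at this)⟩)) (xne _ _ hc0)
    have h3 := hO _ (hx _ hbU _ hcU) hbcne
    have : P1 c b = (Nat.blt c b && (Nat.blt b (b ^^^ c) && tb O_TabD8 (b ^^^ c))) := rfl
    rw [this, tb_eq, h3, Bool.and_true, Bool.and_eq_true, Nat.blt_eq, Nat.blt_eq]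
    exact ⟨h1, h2⟩
  have hacne : a ^^^ c ≠ 0 := fun h => hac (xeq _ _ h)
  have habne : a ^^^ b ≠ 0 := fun h => hab (xeq _ _ h)
  have habcne : a ^^^ (b ^^^ c) ≠ 0 := fun h => habc (xeq _ _ h)
  have hmin : ∀ y ∈ U, y ≠ 0 → a ≠ y → a ^^^ y ≠ 0 ∧ (y = c ∨ y = b ∨ y = b ^^^ c → a < a ^^^ y) := by
    intro y hy hy0 hay
    refine ⟨fun h => hay (xeq _ _ h), fun hyc => lt_of (hamin _ (Finset.mem_filter.2 ⟨hx _ haU _ hy,
      fun h => hay (xeq _ _ h), ?_, ?_, ?_⟩)) (xne _ _ hy0)⟩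
    · intro h
      have h' : a = c ^^^ y := by rw [← h, xor_cancel]
      rcases hyc with h1 | h1 | h1
      · rw [h1, Nat.xor_self] at h'; exact ha0 h'
      · rw [h1, Nat.xor_comm] at h'; exact habc h'
      · rw [h1, Nat.xor_comm, xor_cancel] at h'; exact hab h'
    · intro h
      have h' : a = b ^^^ y := by rw [← h, xor_cancel]
      rcases hyc with h1 | h1 | h1
      · rw [h1] at h'; exact habc h'
      · rw [h1, Nat.xor_self] at h'; exact ha0 h'
      · rw [h1, ← Nat.xor_assoc, Nat.xor_self, Nat.zero_xor] at h'; exact hac h'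
    · intro h
      have h' : a = b ^^^ c ^^^ y := by rw [← h, xor_cancel]
      rcases hyc with h1 | h1 | h1
      · rw [h1, xor_cancel] at h'; exact hab h'
      · rw [h1, Nat.xor_comm b c, xor_cancel] at h'; exact hac h'
      · rw [h1, Nat.xor_self] at h'; exact ha0 h'
  have p2 : P1 c a = true := by
    have h1 : c < a := lt_of (hcmin a (Finset.mem_filter.2 ⟨haU, ha0⟩)) hac
    have h2 : a < a ^^^ c := (hmin c hcU hc0 hac).2 (Or.inl rfl)
    have h3 := hO _ (hx _ haU _ hcU) hacne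
    have : P1 c a = (Nat.blt c a && (Nat.blt a (a ^^^ c) && tb O_TabD8 (a ^^^ c))) := rfl
    rw [this, tb_eq, h3, Bool.and_true, Bool.and_eq_true, Nat.blt_eq, Nat.blt_eq]
    exact ⟨h1, h2⟩
  have p3 : P2 b c a = true := by
    have h1 : b < a := lt_of (hbmin a (Finset.mem_filter.2 ⟨haU, ha0, hac⟩)) hab
    have h2 : a < a ^^^ b := (hmin b hbU hb0 hab).2 (Or.inr (Or.inl rfl))
    have h3 : a < a ^^^ (b ^^^ c) := (hmin _ (hx _ hbU _ hcU) hbcne habc).2 (Or.inr (Or.inr rfl))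
    have h4 := hO _ (hx _ haU _ hbU) habne
    have h5 := hO _ (hx _ haU _ (hx _ hbU _ hcU)) habcne
    have : P2 b c a = (Nat.blt b a && (Nat.blt a (a ^^^ b) && (Nat.blt a (a ^^^ (b ^^^ c)) && (tb O_TabD8 (a ^^^ b) &&
      tb O_TabD8 (a ^^^ (b ^^^ c)))))) := rfl
    rw [this, tb_eq, tb_eq, h4, h5, Bool.and_true, Bool.and_true, Bool.and_eq_true, Bool.and_eq_true, Nat.blt_eq,
      Nat.blt_eq, Nat.blt_eq]
    exact ⟨h1, h2, h3⟩
  have hb' := mem_filtR (hmem b hbU hb0) p1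
  have ha' := mem_filtR (mem_filtR (hmem a haU ha0) p2) p3
  have hchk : chk a b c = true :=
    allR_spec (allR_spec (allR_spec chkAll_true c (hmem c hcU hc0)) b hb') a ha'
  set V := tR 0 a b c with hV
  set Z := zR V AB with hZ
  obtain ⟨e, he⟩ : ∃ e, e = Nat.log2 (Z ^^^ V) := ⟨_, rfl⟩
  have hchk' : (Nat.beq (Z ^^^ V) (tR e a b c) && (Nat.blt e 256 && !(tb V e))) = true := by
    rw [he]; exact hchk
  rw [Bool.and_eq_true, Bool.and_eq_true, Nat.blt_eq, tb_eq, Bool.not_eq_true'] at hchk'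
  obtain ⟨k1, k2, k3⟩ := hchk'
  have k1' := Nat.eq_of_beq_eq_true k1
  have hVm : ∀ m, V.testBit m = true ↔ m ∈ U := by
    intro m
    rw [hV, mem_sp, Nat.zero_xor, hUs]
  have hV256 : ∀ a' ∈ AB, a' &&& V = V ↔ ∀ u ∈ U, a'.testBit u = true := by
    intro a' _
    constructor
    · intro h u hu
      have h1 := (hVm u).2 hu
      rw [← h, Nat.testBit_and, Bool.and_eq_true] at h1
      exact h1.1
    · intro h
      apply Nat.eq_of_testBit_eq
      intro i
      rw [Nat.testBit_and]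
      by_cases hi : i ∈ U
      · rw [h i hi, Bool.true_and]
      · have h1 : V.testBit i = false := by
          rw [← Bool.not_eq_true]
          exact fun h => hi ((hVm i).1 h)
        rw [h1, Bool.and_false]
  have hcond : ∀ m < 256, (∀ c ∈ ca, (∀ u ∈ U, par 8 (u &&& c) = false) → par 8 (m &&& c) = false) ↔
      Z.testBit m = true := by
    intro m hm
    rw [hZ, zR_spec hm, AB_eq, List.forall_mem_map]
    refine forall₂_congr fun c' hc' => ?_
    have hmemAB : ((2 ^ 256 - 1) ^^^ xb c' 8) ∈ AB := by rw [AB_eq]; exact List.mem_map_of_mem hc'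
    rw [hV256 _ hmemAB]
    have key : ∀ x < 256, ((2 ^ 256 - 1) ^^^ xb c' 8).testBit x = true ↔ par 8 (x &&& c') = false := by
      intro x hx'
      rw [Nat.testBit_xor, xb_spec hx' 8 le_rfl, Nat.testBit_two_pow_sub_one, decide_eq_true hx', Bool.true_xor,
        Bool.not_eq_true']
    rw [key m hm]
    constructor
    · intro h h1
      exact h fun u hu => (key u (hU u hu)).1 (h1 u hu)
    · intro h h1
      exact h fun u hu => (key u (hU u hu)).2 (h1 u hu)
  have heU : e ∉ U := by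
    intro h
    rw [(hVm e).2 h] at k3
    exact absurd k3 (by decide)
  refine ⟨e, k2, heU, (hcond e k2).2 ?_, fun m hm h => ?_⟩
  · have h1 : (tR e a b c).testBit e = true := by rw [mem_sp, Nat.xor_self, hUs]; exact h0
    rw [← k1', Nat.testBit_xor, k3, Bool.xor_false] at h1
    exact h1
  · have h1 := (hcond m hm).1 h
    by_cases hmU : m ∈ U
    · exact Or.inl hmU
    · right
      have h2 : V.testBit m = false := by
        rw [← Bool.not_eq_true]
        exact fun h => hmU ((hVm m).1 h)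
      have h3 : (tR e a b c).testBit m = true := by
        rw [← k1', Nat.testBit_xor, h1, h2]; rfl
      rw [mem_sp, hUs] at h3
      exact h3

end Cfsg.Agent.H749.KKL
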