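import Cfsg.Agent.H613.KKL.Defs

/-!
# S4546, `E₈`: the end of the toral case, abstract part (helper749)

`end_abs` : `K ≤ G` the fixed points of `σ`, `D` with `Cfg0 D x`, `g ι(D) g⁻¹ < E`, `E` an abelian 2-group fixed by `σ`,
`|E : g ι(D) g⁻¹| = 2`, `E` normalised by `N_G(g ι(D) g⁻¹)`: contradiction to `O₂(C(D)) ≤ D`.
-/

set_option autoImplicit false

namespace Cfsg.Agent.H749.KKL

open Cfsg.Agent.H613.KKL

/-- only the identity is fixed by `y` -/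
theorem eq_one_of_seven {G : Type*} [Group G] {D : Subgroup G} {y : G} (h : Seven D y) (h8 : E8 D) {d : G}
    (hd : d ∈ D) (hy : y * d * y⁻¹ = d) : d = 1 := by
  by_contra hd1
  have hk : ∀ k : ℕ, y ^ k * d * (y ^ k)⁻¹ = d := by
    intro k
    induction k with
    | zero => simp
    | succ k ih =>
      have h1 : y ^ (k + 1) * d * (y ^ (k + 1))⁻¹ = y ^ k * (y * d * y⁻¹) * (y ^ k)⁻¹ := by
        rw [pow_succ]; group
      rw [h1, hy, ih]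
  have hall : ∀ b ∈ D, b = 1 ∨ b = d := by
    intro b hb
    by_cases hb1 : b = 1
    · exact Or.inl hb1
    · obtain ⟨k, hk'⟩ := h.trans d hd hd1 b hb hb1
      exact Or.inr (hk'.symm.trans (hk k))
  have hc : Nat.card D ≤ 2 := by
    have hsub : (D : Set G) ⊆ ({1, d} : Set G) := fun b hb => by
      rcases hall b hb with h1 | h1
      · exact Or.inl h1
      · exact Or.inr h1
    have h2 := Set.ncard_le_ncard hsub (Set.toFinite _)
    have h3 : ({1, d} : Set G).ncard ≤ 2 := (Set.ncard_insert_le 1 {d}).trans (by rw [Set.ncard_singleton])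
    have h4 : Nat.card D = (D : Set G).ncard := rfl
    omega
  rw [h8.card] at hc
  omega

/-- **The end.** -/
theorem end_abs {K G : Type*} [Group K] [Group G] {D : Subgroup K} {x : K} (hc : Cfg0 D x) (ι : K →* G)
    (hι : Function.Injective ι) (σ : G →* G) (hσ : ∀ a, σ (ι a) = ι a) (g : G) (E : Subgroup G)
    (hE2 : IsPGroup 2 E) (hEc : ∀ a ∈ E, ∀ b ∈ E, a * b = b * a) (hσE : ∀ e ∈ E, σ e = e)
    (hDE : ∀ d ∈ D, g * ι d * g⁻¹ ∈ E)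
    (hE : ∀ n : G, (∀ d ∈ D, ∃ d' ∈ D, n * (g * ι d * g⁻¹) * n⁻¹ = g * ι d' * g⁻¹) → ∀ e ∈ E, n * e * n⁻¹ ∈ E)
    (hidx : ∀ a ∈ E, ∀ b ∈ E, (∀ d ∈ D, a ≠ g * ι d * g⁻¹) → (∀ d ∈ D, b ≠ g * ι d * g⁻¹) →
      ∃ d ∈ D, a⁻¹ * b = g * ι d * g⁻¹)
    {e : G} (he : e ∈ E) (heD : ∀ d ∈ D, e ≠ g * ι d * g⁻¹)
    (hfix : ∀ w : G, g * w * g⁻¹ ∈ E → σ w = w → w ∈ ι.range) : False := by
  obtain ⟨y, hy⟩ := hc.seven
  -- the difference is fixed
  set m : G := g * (σ g)⁻¹ with hm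
  have hmD : ∀ d ∈ D, m * (g * ι d * g⁻¹) * m⁻¹ = g * ι d * g⁻¹ := by
    intro d hd
    have h1 := hσE _ (hDE d hd)
    rw [map_mul, map_mul, map_inv, hσ] at h1
    have h2 : m * (g * ι d * g⁻¹) * m⁻¹ = g * ((σ g)⁻¹ * (g * ι d * g⁻¹) * σ g) * g⁻¹ := by
      rw [hm]; group
    have h3 : (σ g)⁻¹ * (g * ι d * g⁻¹) * σ g = ι d := by rw [← h1]; group
    rw [h2, h3]
  have hmE := hE m fun d hd => ⟨d, hd, hmD d hd⟩
  -- `σ (g⁻¹ a g) = g⁻¹ (m a m⁻¹) g`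
  have hs : ∀ a ∈ E, σ (g⁻¹ * a * g) = g⁻¹ * (m * a * m⁻¹) * g := by
    intro a ha
    rw [map_mul, map_mul, map_inv, hσE a ha, hm]
    group
  have hnot : ∀ n : G, (∀ d ∈ D, ∃ d' ∈ D, n⁻¹ * (g * ι d * g⁻¹) * n = g * ι d' * g⁻¹) → ∀ a : G,
      (∀ d ∈ D, a ≠ g * ι d * g⁻¹) → ∀ d ∈ D, n * a * n⁻¹ ≠ g * ι d * g⁻¹ := by
    intro n hn a ha d hd h1
    obtain ⟨d', hd', h2⟩ := hn d hd
    refine ha d' hd' ?_
    rw [← h2, ← h1]
    group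
  have hmD' : ∀ d ∈ D, ∃ d' ∈ D, m⁻¹ * (g * ι d * g⁻¹) * m = g * ι d' * g⁻¹ := by
    intro d hd
    refine ⟨d, hd, ?_⟩
    nth_rw 1 [← hmD d hd]
    group
  have hme := hnot m hmD' e heD
  obtain ⟨d0, hd0, h0⟩ := hidx e he _ (hmE e he) heD hme
  have hind : ∀ a ∈ E, (∀ d ∈ D, a ≠ g * ι d * g⁻¹) → a⁻¹ * (m * a * m⁻¹) = g * ι d0 * g⁻¹ := by
    intro a ha haD
    obtain ⟨d1, hd1, h1⟩ := hidx e he a ha heD haD
    have h2 : a = e * (g * ι d1 * g⁻¹) := by rw [← h1]; group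
    have h3 : m * a * m⁻¹ = (m * e * m⁻¹) * (g * ι d1 * g⁻¹) := by
      rw [h2]
      have h4 : m * (e * (g * ι d1 * g⁻¹)) * m⁻¹ = (m * e * m⁻¹) * (m * (g * ι d1 * g⁻¹) * m⁻¹) := by group
      rw [h4, hmD d1 hd1]
    have h5 : m * e * m⁻¹ = e * (g * ι d0 * g⁻¹) := by rw [← h0]; group
    rw [h3, h5, h2, mul_inv_rev, mul_assoc e, hEc _ (hDE d0 hd0) _ (hDE d1 hd1)]
    group
  -- `y`
  have hyD : ∀ d ∈ D, y * d * y⁻¹ ∈ D := fun d hd => (hy.norm d).2 hd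
  have hyD' : ∀ d ∈ D, y⁻¹ * d * y ∈ D := by
    intro d hd
    refine (hy.norm _).1 ?_
    have h1 : y * (y⁻¹ * d * y) * y⁻¹ = d := by group
    rwa [h1]
  set n : G := g * ι y * g⁻¹ with hn
  have hnD : ∀ d ∈ D, n * (g * ι d * g⁻¹) * n⁻¹ = g * ι (y * d * y⁻¹) * g⁻¹ := by
    intro d _
    rw [hn, map_mul, map_mul, map_inv]
    group
  have hnD' : ∀ d ∈ D, ∃ d' ∈ D, n⁻¹ * (g * ι d * g⁻¹) * n = g * ι d' * g⁻¹ := by
    intro d hd
    refine ⟨_, hyD' d hd, ?_⟩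
    rw [hn, map_mul, map_mul, map_inv]
    group
  have hnE := hE n fun d hd => ⟨_, hyD d hd, hnD d hd⟩
  have hne := hnot n hnD' e heD
  have h1 := hind _ (hnE e he) hne
  have h2 := hind e he heD
  -- `σ v = v ι(d0)`
  have hv : σ (g⁻¹ * e * g) = (g⁻¹ * e * g) * ι d0 := by
    rw [hs e he]
    have h3 : m * e * m⁻¹ = e * (g * ι d0 * g⁻¹) := by rw [← h2]; group
    rw [h3]
    group
  have hv1 : σ (g⁻¹ * (n * e * n⁻¹) * g) = (g⁻¹ * (n * e * n⁻¹) * g) * ι d0 := by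
    rw [hs _ (hnE e he)]
    have h3 : m * (n * e * n⁻¹) * m⁻¹ = (n * e * n⁻¹) * (g * ι d0 * g⁻¹) := by rw [← h1]; group
    rw [h3]
    group
  have hd0y : y * d0 * y⁻¹ = d0 := by
    apply hι
    have h3 : g⁻¹ * (n * e * n⁻¹) * g = ι y * (g⁻¹ * e * g) * (ι y)⁻¹ := by
      rw [hn]; group
    have h4 : σ (ι y * (g⁻¹ * e * g) * (ι y)⁻¹) = (ι y * (g⁻¹ * e * g) * (ι y)⁻¹) * (ι y * ι d0 * (ι y)⁻¹) := by
      rw [map_mul, map_mul, map_inv, hσ, hv]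
      group
    rw [h3, h4] at hv1
    rw [map_mul, map_mul, map_inv]
    exact mul_left_cancel hv1
  have hd01 := eq_one_of_seven hy hc.e8 hd0 hd0y
  have hvf : σ (g⁻¹ * e * g) = g⁻¹ * e * g := by rw [hv, hd01, map_one, mul_one]
  obtain ⟨w, hw⟩ := hfix _ (by rw [show g * (g⁻¹ * e * g) * g⁻¹ = e by group]; exact he) hvf
  -- the normal subgroup
  let N : Subgroup K := E.comap ((MulAut.conj g).toMonoidHom.comp ι)
  have hNm : ∀ a : K, a ∈ N ↔ g * ι a * g⁻¹ ∈ E := fun a => Iff.rfl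
  have hinj : Function.Injective ((MulAut.conj g).toMonoidHom.comp ι) :=
    (MulAut.conj g).injective.comp hι
  have hle := hc.rad D le_rfl N (hE2.comap_of_injective _ hinj) (by
    intro a ha
    rw [Subgroup.mem_centralizer_iff]
    intro d hd
    have h3 := hEc _ (hDE d hd) _ ((hNm a).1 ha)
    apply hι
    rw [map_mul, map_mul]
    have h4 : g⁻¹ * (g * ι d * g⁻¹ * (g * ι a * g⁻¹)) * g = ι d * ι a := by group
    have h5 : g⁻¹ * (g * ι a * g⁻¹ * (g * ι d * g⁻¹)) * g = ι a * ι d := by group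
    rw [← h4, ← h5, h3]) (by
    intro c hcD a ha
    rw [hNm]
    have h3 := hE (g * ι c * g⁻¹) (fun d hd => ⟨d, hd, by
      have h4 := Subgroup.mem_centralizer_iff.1 hcD d hd
      have h5 : g * ι c * g⁻¹ * (g * ι d * g⁻¹) * (g * ι c * g⁻¹)⁻¹ = g * ι (c * d * c⁻¹) * g⁻¹ := by
        rw [map_mul, map_mul, map_inv]
        group
      rw [h5, ← h4, mul_inv_cancel_right]⟩) _ ((hNm a).1 ha)
    have h4 : g * ι (c * a * c⁻¹) * g⁻¹ = g * ι c * g⁻¹ * (g * ι a * g⁻¹) * (g * ι c * g⁻¹)⁻¹ := by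
      rw [map_mul, map_mul, map_inv]
      group
    rwa [h4])
  have hwN : w ∈ N := by
    rw [hNm, hw]
    rw [show g * (g⁻¹ * e * g) * g⁻¹ = e by group]
    exact he
  refine heD w (hle hwN) ?_
  rw [hw]
  group

end Cfsg.Agent.H749.KKL
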