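import Cfsg.Agent.H749.KKL.CombE8b
import Cfsg.Agent.H167.KKL.DefsE8
import Cfsg.Agent.H795.SetCent
import Cfsg.Agent.H892.ElReg
import Cfsg.Agent.H557.OrbE8
import Cfsg.Agent.BpExc.EmbSplit

/-!
# S4546, `E₈`: the involutions of the torus over a locally finite field (helper749)

* `emb_th` : embeddings and the torus; `exists_th` : `TT chevE8 k = (kˣ)^8`;
* `exists_mask` : the involutions of the torus are the sign vectors of the masks `m < 256`;
* `ch_mask` : their characters; `trL_mask` : their traces on the Lie algebra.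
-/

set_option autoImplicit false
set_option linter.unusedSectionVars false

namespace Cfsg.Agent.H749.KKL

open CoxeterSystem Cfsg Cfsg.Lie Cfsg.Lie.ChevalleyDatum
open Cfsg.Agent.ChevalleyStructure Cfsg.Agent.ChevalleyStructure.Elts Cfsg.Agent.ChevalleyStructure.CoxeterGeom
  Cfsg.Agent.ChevalleyStructure.CoxeterGeomTypes Cfsg.Agent.ChevalleyStructure.NPerm
open Cfsg.Agent.Tits.Roots Cfsg.Agent.Tits.Core Cfsg.Agent.Nodes Cfsg.Agent.Nodes.Reps Cfsg.Agent.Nodes.BNOf
  Cfsg.Agent.Nodes.RGDChev Cfsg.Agent.Nodes.Bruhat Cfsg.Agent.Nodes.NormalForm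
open Cfsg.Agent.KFacts.RgdField Cfsg.Agent.KFacts.RgdChevCoord
open Cfsg.Agent.BpExc.TorCent Cfsg.Agent.BpExc.TorChev Cfsg.Agent.BpExc.Tow
  Cfsg.Agent.BpExc.TowChev Cfsg.Agent.GpExc.Field
open Cfsg.Agent.OddHalf.NI.ModelChev Cfsg.Agent.H557.SignTorus Cfsg.Agent.H557.OrbE8 Cfsg.Agent.H557.ToralTypes
open Cfsg.Agent.H167.KKL

universe u

section Gen

variable {D : ChevalleyDatum} {l : ℕ} {M : CoxeterMatrix (Fin l)} (hp : IsType D l M)
  {F K : Type u} [Field F] [Field K]

/-- embeddings and the torus -/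
theorem emb_th (f : F →+* K) (b : Fin l → Fˣ) :
    emb hp.inList f (th hp b) = th hp (fun i => Units.map (f : F →* K) (b i)) := by
  have h : (emb hp.inList f).comp (th hp) = (th hp).comp ((Units.map (f : F →* K)).compLeft (Fin l)) := by
    refine MonoidHom.pi_ext fun i x => ?_
    show emb hp.inList f (th hp (Pi.mulSingle i x)) = th hp ((Units.map (f : F →* K)).compLeft (Fin l) (Pi.mulSingle i x))
    have h1 : (Units.map (f : F →* K)).compLeft (Fin l) (Pi.mulSingle i x) =
        Pi.mulSingle i (Units.map (f : F →* K) x) := by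
      funext j
      show Units.map (f : F →* K) ((Pi.mulSingle i x : Fin l → Fˣ) j) = _
      by_cases hj : j = i
      · subst hj
        rw [Pi.mulSingle_eq_same, Pi.mulSingle_eq_same]
      · rw [Pi.mulSingle_eq_of_ne hj, Pi.mulSingle_eq_of_ne hj, map_one]
    rw [h1, th_mulSingle, th_mulSingle, sl_dd, sl_dd, emb_hc]
    rfl
  exact DFunLike.congr_fun h b

theorem th_mem (b : Fin l → Kˣ) : th hp b ∈ TT D K := (thT hp b).2

/-- xor of masks -/
theorem sg_xor (m m' : ℕ) : sg K l (m ^^^ m') = sg K l m * sg K l m' := by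
  funext i
  rw [Pi.mul_apply]
  unfold sg
  rw [Nat.testBit_xor]
  cases m.testBit i <;> cases m'.testBit i <;> simp

/-- the sign vectors come from every field -/
theorem map_sg (f : F →+* K) (m : ℕ) : (fun i => Units.map (f : F →* K) (sg F l m i)) = sg K l m := by
  funext i
  unfold sg
  split_ifs
  · apply Units.ext
    rw [Units.coe_map, Units.val_neg, Units.val_one, Units.val_neg, Units.val_one]
    show f (-1) = -1
    rw [map_neg, map_one]
  · rw [map_one]

theorem emb_sg (f : F →+* K) (m : ℕ) : emb hp.inList f (th hp (sg F l m)) = th hp (sg K l m) := by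
  rw [emb_th, map_sg]

end Gen

section E8

variable (hp : IsType chevE8 8 CoxeterMatrix.E₈) {k : Type u} [Field k]

theorem inj_th (b : Fin 8 → kˣ) (h : th hp b = 1) : b = 1 := funext fun i => th_ker_E8 h i

theorem th_injective : Function.Injective (th hp (K := k)) := by
  rw [injective_iff_map_eq_one]
  exact fun b hb => inj_th hp b hb

/-- the torus -/
theorem exists_th (hk : LocFin k) {t : ↥(chevE8.group k)} (ht : t ∈ TT chevE8 k) : ∃ b, th hp b = t := by
  obtain ⟨E, hE⟩ := exists_TT hp hk ht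
  obtain ⟨t', ht', rfl⟩ := hE E le_rfl
  have := Fintype.ofFinite ↥E.1
  obtain ⟨b, rfl⟩ := surj_E8 ht'
  exact ⟨_, (emb_th hp _ b).symm⟩

/-- the involutions of the torus -/
theorem exists_mask (hk : LocFin k) {t : ↥(chevE8.group k)} (ht : t ∈ TT chevE8 k) (h1 : t * t = 1) :
    ∃ m < 256, th hp (sg k 8 m) = t := by
  obtain ⟨b, rfl⟩ := exists_th hp hk ht
  have h2 : b * b = 1 := inj_th hp _ (by rw [map_mul, h1])
  obtain ⟨m, hm, rfl⟩ := exists_sg h2
  exact ⟨m, hm, rfl⟩

theorem th_sg_mul_self (m : ℕ) : th hp (sg k 8 m) * th hp (sg k 8 m) = 1 := by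
  rw [← map_mul, sg_mul_self, map_one]

theorem mask_inj (h2 : (2 : k) ≠ 0) {m m' : ℕ} (hm : m < 256) (hm' : m' < 256)
    (h : th hp (sg k 8 m) = th hp (sg k 8 m')) : m = m' :=
  sg_inj (l := 8) h2 hm hm' (th_injective hp h)

/-- the mask of a root -/
def cr (r : ℕ) : ℕ := if r < 120 then ca.getD (119 - r) 0 else ca.getD (r - 120) 0

set_option backward.isDefEq.respectTransparency false in
set_option maxRecDepth 20000 in
theorem cr_spec_0 : ∀ r < 60, ∀ i < 8, (cr r).testBit i = decide (chevE8.cartan i r % 2 ≠ 0) := by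
  decide +kernel

set_option backward.isDefEq.respectTransparency false in
set_option maxRecDepth 20000 in
theorem cr_spec_1 : ∀ r < 60, ∀ i < 8, (cr (60 + r)).testBit i = decide (chevE8.cartan i (60 + r) % 2 ≠ 0) := by
  decide +kernel

set_option backward.isDefEq.respectTransparency false in
set_option maxRecDepth 20000 in
theorem cr_spec_2 : ∀ r < 60, ∀ i < 8, (cr (120 + r)).testBit i = decide (chevE8.cartan i (120 + r) % 2 ≠ 0) := by
  decide +kernel

set_option backward.isDefEq.respectTransparency false in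
set_option maxRecDepth 20000 in
theorem cr_spec_3 : ∀ r < 60, ∀ i < 8, (cr (180 + r)).testBit i = decide (chevE8.cartan i (180 + r) % 2 ≠ 0) := by
  decide +kernel

theorem cr_spec : ∀ r < 240, ∀ i < 8, (cr r).testBit i = decide (chevE8.cartan i r % 2 ≠ 0) := by
  intro r hr
  rcases Nat.lt_or_ge r 60 with h | h
  · exact cr_spec_0 r h
  rcases Nat.lt_or_ge r 120 with h' | h'
  · obtain ⟨s, rfl⟩ := Nat.exists_eq_add_of_le h
    exact cr_spec_1 s (by omega)
  rcases Nat.lt_or_ge r 180 with h'' | h''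
  · obtain ⟨s, rfl⟩ := Nat.exists_eq_add_of_le h'
    exact cr_spec_2 s (by omega)
  · obtain ⟨s, rfl⟩ := Nat.exists_eq_add_of_le h''
    exact cr_spec_3 s (by omega)

theorem nroots_E8 : chevE8.nroots = 240 := by decide +kernel

/-- the characters of the involutions -/
theorem ch_mask {r : ℕ} (hr : r < chevE8.nroots) (m : ℕ) :
    ch hp (vec chevE8 8 r) (th hp (sg k 8 m)) = if par 8 (m &&& cr r) then -1 else 1 := by
  have h1 : ch hp (vec chevE8 8 r) (th hp (sg k 8 m)) = chH hp hr (thT hp (sg k 8 m)) := rfl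
  have hr' : r < 240 := by rw [← nroots_E8]; exact hr
  rw [h1, chH_thT]
  have h2 : ∏ i : Fin 8, ((sg k 8 m i : kˣ) : k) ^ chevE8.cartan i r =
      ((∏ i : Fin 8, (if (m &&& cr r).testBit i then (-1 : kˣ) else 1) : kˣ) : k) := by
    rw [Units.coe_prod]
    refine Finset.prod_congr rfl fun i _ => ?_
    rw [Nat.testBit_and, cr_spec r hr' i i.2, ← Units.val_zpow_eq_zpow_val]
    congr 1
    unfold sg
    rcases Int.emod_two_eq_zero_or_one (chevE8.cartan i r) with h3 | h3
    · have h4 : Even (chevE8.cartan i r) := Int.even_iff.2 h3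
      simp only [h3, ne_eq, not_true_eq_false, decide_false, Bool.and_false, Bool.false_eq_true, if_false]
      split_ifs
      · rw [h4.neg_one_zpow]
      · rw [one_zpow]
    · have h4 : Odd (chevE8.cartan i r) := Int.odd_iff.2 h3
      simp only [h3, ne_eq, one_ne_zero, not_false_eq_true, decide_true, Bool.and_true]
      split_ifs
      · rw [h4.neg_one_zpow]
      · rw [one_zpow]
  rw [h2, prod_par]
  split_ifs
  · rw [Units.val_neg, Units.val_one]
  · rw [Units.val_one]

end E8

end Cfsg.Agent.H749.KKL
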